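import Mathlib

/-!
# Quasi-compactness from the valuative criterion
-/

set_option autoImplicit false
set_option linter.style.haveILetI false

universe u

open CategoryTheory AlgebraicGeometry IsLocalRing TopologicalSpace

namespace GrothLib.ValQC

theorem exists_factor {A : CommRingCat.{u}} [IsLocalRing A] {X : Scheme.{u}} (l : Spec A ⟶ X) {W : X.Opens}
    (hW : IsAffineOpen W) (h : l (closedPoint A) ∈ W) :
    ∃ θ : Γ(X, W) ⟶ A, Spec.map θ ≫ hW.fromSpec = l := by
  have hr : Set.range l ⊆ Set.range hW.fromSpec := by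
    rw [hW.range_fromSpec]
    rintro _ ⟨p, rfl⟩
    exact ((specializes_closedPoint p).map l.continuous).mem_open W.2 h
  exact ⟨Spec.preimage (IsOpenImmersion.lift hW.fromSpec l hr), by
    rw [Spec.map_preimage, IsOpenImmersion.lift_fac]⟩

variable {X Y : Scheme.{u}} (f : X ⟶ Y)

theorem isCompact_closure_inter [LocallyOfFiniteType f] (hf : ValuativeCriterion f) {V : Y.Opens}
    (hV : IsAffineOpen V) (η : X) (hη : η ∈ f ⁻¹ᵁ V) :
    IsCompact (closure {η} ∩ (f ⁻¹ᵁ V : Set X)) := by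
  classical
  refine isCompact_of_finite_subcover fun {ι} O hO hcov => ?_
  let S := ↥(closure {η} ∩ (f ⁻¹ᵁ V : Set X))
  have hex : ∀ z : S, ∃ (a : ι) (W : X.Opens), IsAffineOpen W ∧ (z : X) ∈ W ∧ W ≤ f ⁻¹ᵁ V ∧ (W : Set X) ⊆ O a := by
    intro z
    obtain ⟨a, ha⟩ := Set.mem_iUnion.1 (hcov z.2)
    obtain ⟨W, hW, hzW, hsub⟩ := exists_isAffineOpen_mem_and_subset
      (show (z : X) ∈ (⟨O a, hO a⟩ : X.Opens) ⊓ f ⁻¹ᵁ V from ⟨ha, z.2.2⟩)
    exact ⟨a, W, hW, hzW, fun x hx => (hsub hx).2, fun x hx => (hsub hx).1⟩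
  choose ix W hW hzW hWV hWO using hex
  suffices h : ∃ s : Finset S, ∀ z : S, ∃ a ∈ s, (z : X) ∈ W a by
    obtain ⟨s, hs⟩ := h
    refine ⟨s.image ix, fun x hx => ?_⟩
    obtain ⟨a, ha, hxa⟩ := hs ⟨x, hx⟩
    exact Set.mem_iUnion₂.2 ⟨ix a, Finset.mem_image_of_mem _ ha, hWO a hxa⟩
  by_contra hno
  push Not at hno
  choose z hz using hno
  let K := X.residueField η
  let gen : Spec K ⟶ X := X.fromSpecResidueField η
  -- valuation rings centred at the points of `S`
  have harc : ∀ p : S, ∃ (A : ValuationSubring K) (φ : Spec (.of A) ⟶ X),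
      Spec.map (CommRingCat.ofHom A.subtype) ≫ φ = gen ∧ φ (closedPoint A) = (p : X) := by
    intro p
    have h : η ⤳ (p : X) := specializes_iff_mem_closure.2 p.2.1
    let ψ : X.presheaf.stalk (p : X) ⟶ K := X.presheaf.stalkSpecializes h ≫ X.residue η
    obtain ⟨A, hA, hA_local⟩ := exists_factor_valuationRing ψ.hom
    let ψA : X.presheaf.stalk (p : X) ⟶ .of A := CommRingCat.ofHom (ψ.hom.codRestrict _ hA)
    refine ⟨A, Spec.map ψA ≫ X.fromSpecStalk _, ?_, ?_⟩
    · show _ = X.fromSpecResidueField η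
      rw [Scheme.fromSpecResidueField, ← Scheme.SpecMap_stalkSpecializes_fromSpecStalk h]
      simp_rw [← Spec.map_comp_assoc]
      rfl
    · simp only [Scheme.Hom.comp_base, TopCat.coe_comp, Function.comp_apply]
      have : Spec.map ψA (closedPoint A) = closedPoint (X.presheaf.stalk (p : X)) :=
        comap_closedPoint (S := A) (ψ.hom.codRestrict A.toSubring hA)
      rw [this, X.fromSpecStalk_closedPoint]
  choose A φ hφ hφp using fun i => harc (z i)
  have hσ : Set.range (gen ≫ f) ⊆ Set.range hV.fromSpec := by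
    rw [hV.range_fromSpec]
    rintro _ ⟨p, rfl⟩
    rw [Scheme.Hom.comp_apply, Scheme.fromSpecResidueField_apply]
    exact hη
  let ρ : Γ(Y, V) ⟶ K := Spec.preimage (IsOpenImmersion.lift hV.fromSpec (gen ≫ f) hσ)
  have hρ : Spec.map ρ ≫ hV.fromSpec = gen ≫ f := by rw [Spec.map_preimage, IsOpenImmersion.lift_fac]
  have hρA : ∀ i r, ρ r ∈ A i := fun i r => by
    obtain ⟨θ, hθ⟩ := exists_factor (φ i ≫ f) hV (by
      rw [Scheme.Hom.comp_apply, hφp]; exact (z i).2.2)
    have e : θ ≫ CommRingCat.ofHom (A i).subtype = ρ := by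
      apply Spec.map_injective
      rw [← cancel_mono hV.fromSpec, Spec.map_comp, Category.assoc, hθ, hρ, ← Category.assoc, hφ]
    rw [← e]
    exact (θ r).2
  let U : Ultrafilter (Finset S) := Ultrafilter.of Filter.atTop
  let A₀ : ValuationSubring K :=
    { carrier := {x | ∀ᶠ i in U, x ∈ A i}
      mul_mem' := fun hx hy => (hx.and hy).mono fun i h => mul_mem h.1 h.2
      one_mem' := Filter.Eventually.of_forall fun i => one_mem _
      add_mem' := fun hx hy => (hx.and hy).mono fun i h => add_mem h.1 h.2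
      zero_mem' := Filter.Eventually.of_forall fun i => zero_mem _
      neg_mem' := fun hx => hx.mono fun i h => neg_mem h
      mem_or_inv_mem' := fun x => Ultrafilter.eventually_or.1
        (Filter.Eventually.of_forall fun i => (A i).mem_or_inv_mem x) }
  let ρ₀ : Γ(Y, V) ⟶ .of A₀ :=
    CommRingCat.ofHom (ρ.hom.codRestrict A₀.toSubring fun r => Filter.Eventually.of_forall fun i => hρA i r)
  have hρ₀ : ρ₀ ≫ CommRingCat.ofHom A₀.subtype = ρ := rfl
  have w₀ : gen ≫ f = Spec.map (CommRingCat.ofHom (algebraMap A₀ K)) ≫ Spec.map ρ₀ ≫ hV.fromSpec := by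
    rw [← hρ, ← hρ₀, Spec.map_comp, Category.assoc]
    rfl
  obtain ⟨l, hl₁, hl₂⟩ := (hf.existence { R := A₀, K := K, i₁ := gen, i₂ := Spec.map ρ₀ ≫ hV.fromSpec, commSq := ⟨w₀⟩ }).exists_lift
  dsimp only at hl₁ hl₂
  have hlcl : l (closedPoint A₀) ∈ closure {η} ∩ (f ⁻¹ᵁ V : Set X) := by
    refine ⟨?_, ?_⟩
    · rw [← specializes_iff_mem_closure]
      have h1 : l (Spec.map (CommRingCat.ofHom (algebraMap A₀ K)) (closedPoint K)) = η := by
        rw [← Scheme.Hom.comp_apply, hl₁]
        exact Scheme.fromSpecResidueField_apply η _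
      refine (specializes_of_eq h1.symm).trans ?_
      exact (specializes_closedPoint _).map l.continuous
    · show f (l (closedPoint A₀)) ∈ V
      rw [← Scheme.Hom.comp_apply, hl₂, Scheme.Hom.comp_apply]
      exact Set.ext_iff.1 hV.range_fromSpec _ |>.1 ⟨_, rfl⟩
  let q : S := ⟨_, hlcl⟩
  obtain ⟨θ, hθ⟩ := exists_factor l (hW q) (hzW q)
  let ev : Γ(X, W q) ⟶ K := θ ≫ CommRingCat.ofHom A₀.subtype
  have hev : Spec.map ev ≫ (hW q).fromSpec = gen := by
    rw [Spec.map_comp, Category.assoc, hθ]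
    exact hl₁
  let a : Γ(Y, V) ⟶ Γ(X, W q) := f.appLE V (W q) (hWV q)
  have ha : a ≫ ev = ρ := by
    apply Spec.map_injective
    rw [← cancel_mono hV.fromSpec, hρ, Spec.map_comp, Category.assoc,
      hV.SpecMap_appLE_fromSpec f (hW q) (hWV q), ← Category.assoc, hev]
  have hft : a.hom.FiniteType := f.finiteType_appLE hV (hW q) (hWV q)
  letI := a.hom.toAlgebra
  obtain ⟨G, hG⟩ := (hft : Algebra.FiniteType Γ(Y, V) Γ(X, W q)).out
  have hev1 : ∀ᶠ i in U, ∀ g ∈ G, ev g ∈ A i :=
    (Filter.eventually_all_finset G).2 fun g _ => (θ g).2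
  have hev2 : ∀ᶠ i in (U : Filter (Finset S)), q ∈ i :=
    Ultrafilter.of_le (f := Filter.atTop) (Filter.eventually_atTop.2
      ⟨({q} : Finset S), fun (i : Finset S) (hi : ({q} : Finset S) ⊆ i) => hi (Finset.mem_singleton_self q)⟩)
  obtain ⟨i, hi1, hi2⟩ := (hev1.and hev2).exists
  refine hz i q hi2 ?_
  have hall : ∀ b, ev b ∈ A i := by
    intro b
    have hb : b ∈ Algebra.adjoin Γ(Y, V) (↑G : Set Γ(X, W q)) := hG ▸ Algebra.mem_top
    induction hb using Algebra.adjoin_induction with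
    | mem x hx => exact hi1 x hx
    | algebraMap r =>
      show ev (a r) ∈ A i
      rw [← CategoryTheory.comp_apply, ha]
      exact hρA i r
    | add x y _ _ hx hy => rw [map_add]; exact add_mem hx hy
    | mul x y _ _ hx hy => rw [map_mul]; exact mul_mem hx hy
  let θi : Γ(X, W q) ⟶ .of (A i) := CommRingCat.ofHom (ev.hom.codRestrict (A i).toSubring hall)
  have hθi : θi ≫ CommRingCat.ofHom (A i).subtype = ev := rfl
  let φ' : Spec (.of (A i)) ⟶ X := Spec.map θi ≫ (hW q).fromSpec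
  have hφ'gen : Spec.map (CommRingCat.ofHom (A i).subtype) ≫ φ' = gen := by
    rw [← Category.assoc, ← Spec.map_comp, hθi, hev]
  have hφ'f : φ' ≫ f = φ i ≫ f := by
    obtain ⟨θV, hθV⟩ := exists_factor (φ i ≫ f) hV (by
      rw [Scheme.Hom.comp_apply, hφp]; exact (z i).2.2)
    rw [Category.assoc, ← hV.SpecMap_appLE_fromSpec f (hW q) (hWV q), ← Category.assoc, ← Spec.map_comp,
      ← hθV]
    congr 2
    ext r
    show ev (a r) = ((θV r : A i) : K)
    rw [← CategoryTheory.comp_apply, ha]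
    have e : θV ≫ CommRingCat.ofHom (A i).subtype = ρ := by
      apply Spec.map_injective
      rw [← cancel_mono hV.fromSpec, Spec.map_comp, Category.assoc, hθV, hρ, ← Category.assoc, hφ]
    rw [← e]
    rfl
  have hsq : gen ≫ f = Spec.map (CommRingCat.ofHom (algebraMap (A i) K)) ≫ φ i ≫ f := by
    rw [← Category.assoc]
    exact congrArg (· ≫ f) (hφ i).symm
  let Sq : ValuativeCommSq f := { R := A i, K := K, i₁ := gen, i₂ := φ i ≫ f, commSq := ⟨hsq⟩ }
  haveI : Subsingleton Sq.commSq.LiftStruct := hf.uniqueness Sq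
  have heq : φ' = φ i := congrArg CommSq.LiftStruct.l
    (Subsingleton.elim (α := Sq.commSq.LiftStruct) ⟨φ', hφ'gen, hφ'f⟩ ⟨φ i, hφ i, rfl⟩)
  rw [← hφp i, ← heq, Scheme.Hom.comp_apply]
  exact Set.ext_iff.1 (hW q).range_fromSpec _ |>.1 ⟨_, rfl⟩

theorem quasiCompact [LocallyOfFiniteType f] (hf : ValuativeCriterion f)
    (hX : (irreducibleComponents ↥X).Finite) : QuasiCompact f := by
  rw [quasiCompact_iff_forall_isAffineOpen]
  intro V hV
  let T : Set X := {η | η ∈ f ⁻¹ᵁ V ∧ closure {η} ∈ irreducibleComponents ↥X}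
  have hT : T.Finite := by
    refine Set.Finite.of_finite_image (f := fun η => closure {η}) (hX.subset ?_) ?_
    · rintro _ ⟨η, hη, rfl⟩; exact hη.2
    · intro x _ y _ h
      exact (isGenericPoint_closure (x := x)).eq (by rw [IsGenericPoint]; exact h.symm)
  have : ((f ⁻¹ᵁ V : X.Opens) : Set X) = ⋃ η ∈ T, (closure {η} ∩ (f ⁻¹ᵁ V : Set X)) := by
    ext x
    simp only [Set.mem_iUnion, Set.mem_inter_iff, exists_prop]
    refine ⟨fun hx => ?_, fun ⟨η, _, _, h⟩ => h⟩
    let C := irreducibleComponent x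
    have hgp := (isIrreducible_irreducibleComponent (x := x)).isGenericPoint_genericPoint
      isClosed_irreducibleComponent
    refine ⟨(isIrreducible_irreducibleComponent (x := x)).genericPoint, ⟨?_, ?_⟩, ?_, hx⟩
    · exact (hgp.specializes mem_irreducibleComponent).mem_open (f ⁻¹ᵁ V).2 hx
    · rw [hgp]; exact irreducibleComponent_mem_irreducibleComponents x
    · rw [hgp]; exact mem_irreducibleComponent
  rw [this]
  exact hT.isCompact_biUnion fun η hη => isCompact_closure_inter f hf hV η hη.1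

end GrothLib.ValQC
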